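import Mathlib.RingTheory.SimpleModule.WedderburnArtin
import Mathlib.RingTheory.Jacobson.Radical
import Mathlib.RingTheory.Length
import Mathlib.RingTheory.Nakayama
import Mathlib.Algebra.Module.Projective
import Mathlib.Algebra.Module.Torsion.Basic

/-!
# Projective modules over strongly local rings
-/

set_option autoImplicit false

universe u v

noncomputable section

namespace Groth.Agent.TwShAlg

variable {A : Type u} [Ring A] {P Q : Type v} [AddCommGroup P] [Module A P] [AddCommGroup Q] [Module A Q]

variable (A P) in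
/-- `J • P`. -/
abbrev JP : Submodule A P := Ring.jacobson A • (⊤ : Submodule A P)

theorem map_JP (f : P →ₗ[A] Q) {x : P} (hx : x ∈ JP A P) : f x ∈ JP A Q :=
  (Submodule.map_smul'' (Ring.jacobson A) ⊤ f).trans_le (Submodule.smul_mono le_rfl le_top)
    (Submodule.mem_map_of_mem hx)

theorem surjective_of_mod [Module.Finite A Q] (h : P →ₗ[A] Q) (hs : ∀ q, ∃ p, q - h p ∈ JP A Q) :
    Function.Surjective h := by
  rw [← LinearMap.range_eq_top]
  have hfg : (⊤ : Submodule A (Q ⧸ LinearMap.range h)).FG := Module.Finite.fg_top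
  have h0 : (⊤ : Submodule A (Q ⧸ LinearMap.range h)) = ⊥ := by
    refine hfg.eq_bot_of_le_jacobson_smul fun x _ => ?_
    obtain ⟨q, rfl⟩ := Submodule.mkQ_surjective _ x
    obtain ⟨p, hp⟩ := hs q
    have := map_JP (LinearMap.range h).mkQ hp
    rwa [map_sub, show (LinearMap.range h).mkQ (h p) = 0 from
      (Submodule.Quotient.mk_eq_zero _).2 (LinearMap.mem_range_self h p), sub_zero] at this
  refine eq_top_iff.2 fun q _ => ?_
  exact (Submodule.Quotient.mk_eq_zero _).1 ((Submodule.mem_bot A).1 (h0.le Submodule.mem_top))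

theorem bijective_of_mod [Module.Finite A P] [Module.Finite A Q] [Module.Projective A Q]
    (h : P →ₗ[A] Q) (hs : ∀ q, ∃ p, q - h p ∈ JP A Q) (hi : ∀ p, h p ∈ JP A Q → p ∈ JP A P) :
    Function.Bijective h := by
  have hsurj := surjective_of_mod h hs
  obtain ⟨s, hs'⟩ := Module.projective_lifting_property h LinearMap.id hsurj
  have hs'' : ∀ q, h (s q) = q := fun q => LinearMap.congr_fun hs' q
  have hss : Function.Surjective s := surjective_of_mod s fun p => ⟨h p, hi _ (by
    rw [map_sub, hs'', sub_self]; exact zero_mem _)⟩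
  refine ⟨fun a b hab => ?_, hsurj⟩
  obtain ⟨a', rfl⟩ := hss a
  obtain ⟨b', rfl⟩ := hss b
  rw [hs'', hs''] at hab
  rw [hab]

variable (A) in
/-- The semisimple quotient. -/
abbrev Abar : Type u := A ⧸ Ring.jacobson A

variable (A P) in
/-- `P/JP`. -/
abbrev Top : Type v := P ⧸ JP A P

variable (A P) in
/-- The quotient map. -/
abbrev qm : P →ₗ[A] Top A P := (JP A P).mkQ

theorem qm_smul (a : A) (x : P) : (Submodule.Quotient.mk a : Abar A) • qm A P x = a • qm A P x := rfl

theorem mk_smul' (a : A) (x : Top A P) : (Submodule.Quotient.mk a : Abar A) • x = a • x := by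
  obtain ⟨p, rfl⟩ := Submodule.mkQ_surjective _ x
  exact qm_smul a p

theorem qm_eq_zero {x : P} : qm A P x = 0 ↔ x ∈ JP A P := Submodule.Quotient.mk_eq_zero _

/-- Regard a linear map over `A` as linear over the semisimple quotient. -/
def barLin (f : Top A P →ₗ[A] Top A Q) : Top A P →ₗ[Abar A] Top A Q where
  toFun := f
  map_add' := map_add f
  map_smul' c x := by
    obtain ⟨a, rfl⟩ := Submodule.mkQ_surjective _ c
    simp only [RingHom.id_apply]
    show f ((Submodule.Quotient.mk a : Abar A) • x) = (Submodule.Quotient.mk a : Abar A) • f x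
    rw [mk_smul', mk_smul', map_smul]

/-- Forget down to `A`. -/
def unbar (f : Top A P →ₗ[Abar A] Top A Q) : Top A P →ₗ[A] Top A Q where
  toFun := f
  map_add' := map_add f
  map_smul' a x := by
    simp only [RingHom.id_apply]
    rw [← mk_smul', map_smul, mk_smul']

theorem exists_lift [Module.Projective A P] (f : Top A P →ₗ[Abar A] Top A Q) :
    ∃ h : P →ₗ[A] Q, ∀ p, qm A Q (h p) = f (qm A P p) := by
  obtain ⟨h, hh⟩ := Module.projective_lifting_property (qm A Q) (unbar f ∘ₗ qm A P)
    (Submodule.mkQ_surjective _)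
  exact ⟨h, fun p => LinearMap.congr_fun hh p⟩

instance [Module.Finite A P] : Module.Finite (Abar A) (Top A P) := by
  obtain ⟨n, g, hg⟩ := Module.Finite.exists_fin (R := A) (M := Top A P)
  rw [Module.finite_def, Submodule.fg_iff_exists_fin_generating_family]
  refine ⟨n, g, eq_top_iff.2 fun x _ => ?_⟩
  have hx : x ∈ Submodule.span A (Set.range g) := hg.ge Submodule.mem_top
  clear * - hx
  induction hx using Submodule.span_induction with
  | mem y hy => exact Submodule.subset_span hy
  | zero => exact zero_mem _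
  | add y z _ _ hy hz => exact add_mem hy hz
  | smul a y _ hy => rw [← mk_smul']; exact Submodule.smul_mem _ _ hy

variable [IsSimpleRing (A ⧸ Ring.jacobson A)] [IsArtinianRing (A ⧸ Ring.jacobson A)]

/-- Endomorphisms landing in `J • P`. -/
def Small (f : Module.End A P) : Prop := ∀ x, f x ∈ JP A P

theorem small_iff [Module.Finite A P] [Module.Projective A P] (f : Module.End A P) :
    Small f ↔ ∀ g : Module.End A P, IsUnit (1 + g * f) := by
  constructor
  · intro hf g
    rw [Module.End.isUnit_iff]
    have hj : ∀ x, (1 + g * f : Module.End A P) x - x ∈ JP A P := fun x => by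
      simpa using map_JP g (hf x)
    refine bijective_of_mod _ (fun q => ⟨q, ?_⟩) fun p hp => ?_
    · rw [← neg_mem_iff, neg_sub]; exact hj q
    · simpa using sub_mem hp (hj p)
  · intro hu x
    by_contra hx
    let fb : Top A P →ₗ[Abar A] Top A P :=
      barLin (Submodule.mapQ _ _ f fun y hy => map_JP f hy)
    obtain ⟨C, hC⟩ := exists_isCompl (LinearMap.ker fb)
    have hinj : Function.Injective (fb ∘ₗ C.subtype) := by
      rw [← LinearMap.ker_eq_bot]
      refine eq_bot_iff.2 fun c hc => ?_
      have : (c : Top A P) ∈ LinearMap.ker fb ⊓ C := ⟨hc, c.2⟩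
      rw [hC.disjoint.eq_bot] at this
      exact (Submodule.mem_bot _).2 (Subtype.ext ((Submodule.mem_bot _).1 this))
    obtain ⟨l, hl⟩ := IsSemisimpleModule.extension_property (fb ∘ₗ C.subtype) hinj (-C.subtype)
    obtain ⟨g, hg⟩ := exists_lift l
    obtain ⟨k, hk, c, hc, hkc⟩ := Submodule.mem_sup.1 (hC.sup_eq_top.ge (Submodule.mem_top (x := qm A P x)))
    obtain ⟨p, hp⟩ := Submodule.mkQ_surjective _ c
    have h1 : qm A P ((1 + g * f : Module.End A P) p) = 0 := by
      change qm A P (p + g (f p)) = 0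
      rw [map_add, hg]
      have h2 : l (fb c) = -c := LinearMap.congr_fun hl ⟨c, hc⟩
      have h3 : qm A P (f p) = fb c := by rw [← hp]; rfl
      rw [h3, h2, ← hp]; exact add_neg_cancel _
    obtain ⟨u, hu'⟩ := hu g
    have h4 : p ∈ JP A P := by
      have := map_JP (↑u⁻¹ : Module.End A P) (qm_eq_zero.1 h1)
      rwa [← hu', ← Module.End.mul_apply, Units.inv_mul, Module.End.one_apply] at this
    apply hx
    have hc0 : c = 0 := by rw [← hp]; exact qm_eq_zero.2 h4
    rw [hc0, add_zero] at hkc
    rw [hkc] at hk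
    exact qm_eq_zero.1 (show fb (qm A P x) = 0 from hk)

/-- The preorder by ranges modulo `J`. -/
def Below (f g : Module.End A P) : Prop := ∃ h : Module.End A P, Small (f - g * h)

/-- Range modulo `J`. -/
def rg (f : Module.End A P) : Submodule (Abar A) (Top A P) :=
  LinearMap.range (barLin (Submodule.mapQ _ _ f fun y hy => map_JP f hy))

theorem mem_rg (f : Module.End A P) (y : Top A P) : y ∈ rg f ↔ ∃ p, qm A P (f p) = y := by
  constructor
  · rintro ⟨x, rfl⟩
    obtain ⟨p, rfl⟩ := Submodule.mkQ_surjective _ x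
    exact ⟨p, rfl⟩
  · rintro ⟨p, rfl⟩
    exact ⟨qm A P p, rfl⟩

theorem below_iff [Module.Projective A P] (f g : Module.End A P) : Below f g ↔ rg f ≤ rg g := by
  constructor
  · rintro ⟨h, hh⟩ y hy
    obtain ⟨p, rfl⟩ := (mem_rg f y).1 hy
    refine (mem_rg g _).2 ⟨h p, ?_⟩
    have := qm_eq_zero.2 (hh p)
    rw [LinearMap.sub_apply, map_sub, sub_eq_zero] at this
    exact this.symm
  · intro hle
    let gq : P →ₗ[A] Top A P := qm A P ∘ₗ g
    let fq : P →ₗ[A] LinearMap.range gq := (qm A P ∘ₗ f).codRestrict _ fun p =>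
      (mem_rg g _).1 (hle ((mem_rg f _).2 ⟨p, rfl⟩))
    obtain ⟨h, hh⟩ := Module.projective_lifting_property gq.rangeRestrict fq
      gq.surjective_rangeRestrict
    refine ⟨h, fun p => qm_eq_zero.1 ?_⟩
    rw [LinearMap.sub_apply, map_sub, sub_eq_zero]
    exact (congrArg Subtype.val (LinearMap.congr_fun hh p)).symm

theorem exists_rg [Module.Projective A P] (K : Submodule (Abar A) (Top A P)) :
    ∃ f : Module.End A P, rg f = K := by
  obtain ⟨C, hC⟩ := exists_isCompl K
  obtain ⟨f, hf⟩ := exists_lift (K.subtype ∘ₗ K.projectionOnto C hC)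
  refine ⟨f, le_antisymm (fun y hy => ?_) fun y hy => ?_⟩
  · obtain ⟨p, rfl⟩ := (mem_rg f y).1 hy
    rw [hf]; exact SetLike.coe_mem _
  · obtain ⟨p, rfl⟩ := Submodule.mkQ_surjective _ y
    refine (mem_rg f _).2 ⟨p, ?_⟩
    rw [hf]
    exact congrArg Subtype.val (Submodule.projectionOnto_apply_left hC ⟨qm A P p, hy⟩)

theorem map_below [Module.Finite A P] [Module.Projective A P] [Module.Finite A Q] [Module.Projective A Q]
    (e : Module.End A P ≃+* Module.End A Q) {f g : Module.End A P} (h : Below f g) : Below (e f) (e g) := by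
  obtain ⟨k, hk⟩ := h
  refine ⟨e k, ?_⟩
  rw [← map_mul, ← map_sub, small_iff]
  intro g'
  obtain ⟨g'', rfl⟩ := e.surjective g'
  rw [← map_mul, ← map_one e, ← map_add]
  exact ((small_iff _).1 hk g'').map e

theorem length_le [Module.Finite A P] [Module.Projective A P] [Module.Finite A Q] [Module.Projective A Q]
    (e : Module.End A P ≃+* Module.End A Q) :
    Module.length (Abar A) (Top A P) ≤ Module.length (Abar A) (Top A Q) := by
  choose φ hφ using exists_rg (A := A) (P := P)
  let Φ : Submodule (Abar A) (Top A P) → Submodule (Abar A) (Top A Q) := fun K => rg (e (φ K))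
  have hmono : StrictMono Φ := by
    intro K K' hlt
    refine lt_of_le_not_ge ?_ fun hge => hlt.not_ge ?_
    · exact (below_iff _ _).1 (map_below e ((below_iff _ _).2 (by rw [hφ, hφ]; exact hlt.le)))
    · have := map_below e.symm ((below_iff _ _).2 hge)
      rw [e.symm_apply_apply, e.symm_apply_apply, below_iff, hφ, hφ] at this
      exact this
  rw [← WithBot.coe_le_coe, Module.coe_length, Module.coe_length]
  exact Order.krullDim_le_of_strictMono Φ hmono

/-- Projective modules over a strongly local ring are determined by their endomorphism rings. -/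
theorem nonempty_linearEquiv [Module.Finite A P] [Module.Projective A P] [Module.Finite A Q]
    [Module.Projective A Q] (e : Module.End A P ≃+* Module.End A Q) : Nonempty (P ≃ₗ[A] Q) := by
  obtain ⟨S, hS⟩ := IsAtomic.exists_atom (Ideal (Abar A))
  haveI : IsSimpleModule (Abar A) S := isSimpleModule_iff_isAtom.2 hS
  have hT : ∀ (M : Type v) [AddCommGroup M] [Module (Abar A) M], IsIsotypicOfType (Abar A) M S :=
    fun M _ _ m _ => by
      obtain ⟨I, ⟨e'⟩⟩ := IsSemisimpleRing.exists_linearEquiv_ideal_of_isSimpleModule (Abar A) m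
      haveI := IsSimpleModule.congr e'.symm
      exact ⟨e'.trans (IsSimpleRing.isIsotypic (Abar A) (Abar A) S I).some⟩
  obtain ⟨n, ⟨en⟩⟩ := (hT (Top A P)).linearEquiv_fun
  obtain ⟨m, ⟨em⟩⟩ := (hT (Top A Q)).linearEquiv_fun
  have hl := le_antisymm (length_le e) (length_le e.symm)
  rw [en.length_eq, em.length_eq, Module.length_pi_of_fintype, Module.length_pi_of_fintype] at hl
  simp [Module.length_eq_one] at hl
  subst hl
  let ψ := en.trans em.symm
  obtain ⟨h, hh⟩ := exists_lift ψ.toLinearMap
  refine ⟨LinearEquiv.ofBijective h (bijective_of_mod h (fun q => ?_) fun p hp => ?_)⟩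
  · obtain ⟨p, hp⟩ := Submodule.mkQ_surjective _ (ψ.symm (qm A Q q))
    refine ⟨p, qm_eq_zero.1 ?_⟩
    rw [map_sub, hh, show qm A P p = ψ.symm (qm A Q q) from hp]
    simp
  · apply qm_eq_zero.1
    apply ψ.injective
    rw [map_zero]
    exact (hh p).symm.trans (qm_eq_zero.2 hp)

end Groth.Agent.TwShAlg
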